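import Cfsg.Agent.H28.TwOv.Stage
import Cfsg.Agent.H86.EvenCase

/-!
# Overgroups of the subfield subgroups of twisted groups: pairs of long root elements (S2187, X6)

From `OvH` and the Bruhat induction:

* `OvH.pair` : `g ∈ H` is fixed or `x_top(1)^g = x_0(t)^q`, `q ∈ Q` fixed by `sg`;
* `OvH.hP` : `H ∩ P` is fixed;
* `OvH.hB` : elements of `Q` with fixed coordinates;
* `OvH.hCQ` : elements of `H ∩ U` centralising `H ∩ Q` lie in `Q`.
-/

set_option autoImplicit false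

namespace Cfsg.Agent.H28.TwOv

open Cfsg.Lie Cfsg.Agent.ChevalleyStructure Cfsg.Agent.ChevalleyStructure.Elts
open Cfsg.Agent.ChevalleyStructure.TwistedU Cfsg.Agent.H82.Level Cfsg.Agent.H82.TwMax
open Cfsg.Agent.ChevalleyStructure.RootCombGood (co car)
open Cfsg.Agent.ChevalleyStructure.RootWord
open Cfsg.Agent.ChevalleyStructure.BruhatSplit (Acts)
open Cfsg.Agent.ChevalleyStructure.TwistedBN
open Cfsg.Agent.H86.Par (top)
open Cfsg.Agent.H86.Graded (Q xG_mem_Q Q_le_iff)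
open scoped commutatorElement

universe u

theorem fr_eq {D : ChevalleyDatum} {K : Type u} [Field K] (ψ : K →+* K) :
    H92.ChevFrob.fr D ψ = H82.TwMax.fr D ψ := by
  ext g
  rfl

section

variable {D : ChevalleyDatum} {K : Type u} [Field K] {hD : InList D} {h : SL D} {Lo : List (List ℕ)}
  {rho : ℕ → ℕ} {eps : ℕ → ℤ} {φ : K →+* K} {sg : GL D.Idx K →* GL D.Idx K} {G : Subgroup (GL D.Idx K)}
  (W : Tw hD h Lo rho eps φ sg G)
  (hlev : ∀ r < D.nroots, D.IsPosRoot r → car D (top D) (rho r) = car D (top D) r)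

include W hlev

theorem sg_mem_Q {q : GL D.Idx K} (hq : q ∈ Q D K (top D)) : sg q ∈ Q D K (top D) := by
  have h1 : Q D K (top D) ≤ (Q D K (top D)).comap sg := by
    rw [Q_le_iff hD]
    intro r hr h1 t
    have hp := H86.Par.pos_of_level hD hr h1
    show sg (xG hD r t) ∈ Q D K (top D)
    rw [W.sg_X r hp]
    exact xG_mem_Q hD (W.T.rho_lt r hr) (by rw [hlev r hr hp]; exact h1) _
  exact h1 hq

theorem sg_mem_UL {u : GL D.Idx K} (hu : u ∈ H86.Par.UL K D) : sg u ∈ H86.Par.UL K D := by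
  have h1 : H86.Par.UL K D ≤ (H86.Par.UL K D).comap sg := by
    rw [H86.Par.UL_le_iff hD]
    intro r hr h1 t
    show sg (xG hD r t) ∈ H86.Par.UL K D
    rw [W.sg_X r hr]
    exact H86.Par.xG_mem_UL hD (rho_pos W hr) (by rw [hlev r hr.1 hr]; exact h1) _
  exact h1 hu

/-- the opposite elements -/
theorem exists_Q {u : GL D.Idx K} (hu : u ∈ D.posUnipotent K) (hs : sg u = u) :
    ∃ q ∈ Q D K (top D), sg q = q ∧ ∀ t : K, u⁻¹ * xG hD 0 t * u = q⁻¹ * xG hD 0 t * q := by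
  obtain ⟨l, hl, q, hq, e⟩ := H86.Par.pos_decomp hD hu
  refine ⟨q, hq, ?_, fun t => ?_⟩
  · have h1 : l⁻¹ * sg l = q * (sg q)⁻¹ := by
      have h2 : sg l * sg q = l * q := by rw [← map_mul, ← e, hs]
      calc l⁻¹ * sg l = l⁻¹ * (sg l * sg q) * (sg q)⁻¹ := by group
        _ = l⁻¹ * (l * q) * (sg q)⁻¹ := by rw [h2]
        _ = _ := by group
    have h2 : l⁻¹ * sg l = 1 := by
      refine H86.Par.UL_inf_Q hD (mul_mem (inv_mem hl) (sg_mem_UL W hlev hl)) ?_
      rw [h1]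
      exact mul_mem hq (inv_mem (sg_mem_Q W hlev hq))
    rw [h2] at h1
    exact (mul_inv_eq_one.1 h1.symm).symm
  · have h1 := H86.Par.UL_comm hD (inv_mem hl) t
    rw [e]
    calc (l * q)⁻¹ * xG hD 0 t * (l * q) = q⁻¹ * (l⁻¹ * xG hD 0 t) * l * q := by group
      _ = q⁻¹ * (xG hD 0 t * l⁻¹) * l * q := by rw [h1]
      _ = _ := by group

end

section Ov

variable {D : ChevalleyDatum} {K : Type u} [Field K] {hD : InList D} {h : SL D} {Lo : List (List ℕ)}
  {rho : ℕ → ℕ} {eps : ℕ → ℤ} {φ : K →+* K} {sg : GL D.Idx K →* GL D.Idx K} {G : Subgroup (GL D.Idx K)}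
  {W : Tw hD h Lo rho eps φ sg G} {ψ : K →+* K} {H : Subgroup (GL D.Idx K)} (V : OvH W ψ (top D) H)
  (hlev : ∀ r < D.nroots, D.IsPosRoot r → car D (top D) (rho r) = car D (top D) r)

include W hlev in
theorem pair_of_ind (_hHG : H ≤ G) (hind : ∀ g ∈ H, H82.TwMax.fr D ψ g = g ∨ ∃ (b n u : GL D.Idx K) (w : List ℕ), b ∈ D.borelSubgroup K ∧
      NW rho G n w ∧ u ∈ D.posUnipotent K ∧ u ∈ G ∧ g = b * n * u ∧ wact D w.reverse (top D) = 0) :
    ∀ g ∈ H, H92.ChevFrob.fr D ψ g = g ∨ ∃ q ∈ Q D K (top D), sg q = q ∧ ∃ t : K, t ≠ 0 ∧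
      g⁻¹ * xG hD (top D) 1 * g = q⁻¹ * xG hD 0 t * q := by
  have Gd := RootComb.good_of_mem hD
  intro g hg
  rcases hind g hg with h1 | ⟨b, n, u, w, hb, hn, hu, huG, e, hw⟩
  · left
    rw [fr_eq]
    exact h1
  · right
    obtain ⟨q, hq, hqs, hqe⟩ := exists_Q W hlev hu (W.G_fix u huG)
    obtain ⟨c₁, h1⟩ := H86.Par.P_conj_top hD (H86.Par.borel_le_P hD (inv_mem hb)) 1
    have hc1 := H86.Par.conj_ne hD (H86.Par.top_lt hD) one_ne_zero h1
    obtain ⟨c₂, h2⟩ := H86.Par.acts_conj hD (Acts.inv Gd hn.acts hn.lt) (H86.Par.top_lt hD) c₁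
    have hc2 := H86.Par.conj_ne hD (H86.Par.top_lt hD) hc1 h2
    rw [hw] at h2
    refine ⟨q, hq, hqs, c₂, hc2, ?_⟩
    rw [← hqe, ← h2, ← h1, e]
    group

/-- `H ∩ P` is fixed -/
theorem hP_of_pair (hC : ∀ g ∈ H, H92.ChevFrob.fr D ψ g = g ∨ ∃ q ∈ Q D K (top D), sg q = q ∧ ∃ t : K, t ≠ 0 ∧
      g⁻¹ * xG hD (top D) 1 * g = q⁻¹ * xG hD 0 t * q) :
    ∀ g ∈ H, g ∈ H86.Par.P K D → H92.ChevFrob.fr D ψ g = g := by
  intro g hg hgP
  rcases hC g hg with h1 | ⟨q, hq, -, t, ht, e⟩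
  · exact h1
  · exfalso
    have hqP : q ∈ H86.Par.P K D := H86.Par.pos_le_P hD (H86.Par.Q_le_pos hD hq)
    obtain ⟨c₁, h1⟩ := H86.Par.P_conj_top hD (inv_mem hgP) 1
    obtain ⟨c₂, h2⟩ := H86.Par.P_conj_top hD hqP c₁
    have h3 : xG hD 0 t = xG hD (top D) c₂ := by
      rw [← h2, ← h1, inv_inv, e]
      group
    have h4 := H86.Par.eq_of_xG_eq hD (H86.Par.zero_lt hD) (H86.Par.top_lt hD) ht h3
    have h5 := H86.Par.car_top hD
    have h6 := H86.Par.car_zero hD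
    rw [← h4, h5] at h6
    norm_num at h6

include V in
/-- elements fixed modulo the highest root group -/
theorem OvH.split_top {v : GL D.Idx K} (hv : v ∈ D.posUnipotent K) (hvs : sg v = v) {s : K}
    (hf : fr D ψ v = v * xG hD (top D) s) :
    ∃ v₀ ∈ H, v₀ ∈ D.posUnipotent K ∧ fr D ψ v₀ = v₀ ∧ ∃ e : K, v = v₀ * xG hD (top D) e := by
  have O := ord (K := K) hD h W.T
  have key : ∀ n : ℕ, (n : ℤ) + 1 ≤ H82.Level.ht D (top D) → ∃ v₀ ∈ H, v₀ ∈ D.posUnipotent K ∧ fr D ψ v₀ = v₀ ∧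
      ∃ v₁ ∈ Lv K hD h (n + 1), sg v₁ = v₁ ∧ v = v₀ * v₁ := by
    intro n
    induction n with
    | zero =>
      intro _
      refine ⟨1, one_mem _, one_mem _, map_one _, v, ?_, hvs, (one_mul v).symm⟩
      rw [Nat.cast_zero, zero_add, Lv_one]
      exact hv
    | succ n ih =>
      intro hn
      push_cast at hn
      obtain ⟨v₀, hv₀, hv₀U, hv₀f, v₁, hv₁, hv₁s, e⟩ := ih (by omega)
      have hf1 : fr D ψ v₁ = v₁ * xG hD (top D) s := by
        rw [e, map_mul, hv₀f, mul_assoc] at hf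
        exact mul_left_cancel hf
      have hc : ∀ r, D.IsPosRoot r → H82.Level.ht D r = n + 1 → ψ (cf r v₁) = cf r v₁ := by
        intro r hr hrm
        have hrt : r ≠ top D := by
          rintro rfl
          omega
        rw [← cf_fr ψ, hf1, cf_mul_left hD h (by rw [hrm]; exact hv₁)
          (xG_mem_posUnipotent hD V.top_pos s), cf_xG hD h hr.1 V.top_pos.1, if_neg hrt, add_zero]
      have h1 := fr_of_lead ψ O hc
      have h2 := V.memU _ (lead_mem hD h O _ v₁).1 (sg_lead W hv₁ hv₁s) h1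
      have h2s := sg_lead W hv₁ hv₁s
      refine ⟨v₀ * lead hD Lo.flatten (n + 1) v₁, mul_mem hv₀ h2, mul_mem hv₀U (lead_mem hD h O _ v₁).1,
        by rw [map_mul, hv₀f, h1], (lead hD Lo.flatten (n + 1) v₁)⁻¹ * v₁, ?_, ?_, ?_⟩
      · push_cast
        exact lead_inv_mul_mem hD h O hv₁
      · rw [map_mul, map_inv, h2s, hv₁s]
      · rw [e]; group
  have h1 := h.pos (top D) V.top_pos.1 V.top_pos
  obtain ⟨v₀, hv₀, hv₀U, hv₀f, v₁, hv₁, hv₁s, e⟩ := key ((H82.Level.ht D (top D)).toNat - 1) (by omega)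
  refine ⟨v₀, hv₀, hv₀U, hv₀f, cf (top D) v₁, ?_⟩
  rw [e]
  congr 1
  refine eq_top W V.top_pos V.max ?_
  have e1 : (((H82.Level.ht D (top D)).toNat - 1 : ℕ) : ℤ) + 1 = H82.Level.ht D (top D) := by omega
  rw [e1] at hv₁
  exact hv₁

include V in
/-- elements of `Q` with fixed coordinates -/
theorem OvH.hB : ∀ q ∈ Q D K (top D), sg q = q →
    (∀ r < D.nroots, car D (top D) r = 1 → ψ (H86.Graded.kap D (top D) r (q : Matrix D.Idx D.Idx K)) =
      H86.Graded.kap D (top D) r (q : Matrix D.Idx D.Idx K)) →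
    ∃ e : K, ∃ W ∈ H, W ∈ Q D K (top D) ∧ H92.ChevFrob.fr D ψ W = W ∧ q = xG hD (top D) e * W := by
  intro q hq hqs hk
  have G := H86.Par.good hD
  have T := H86.Par.hiT hD
  have hfq : fr D ψ q ∈ Q D K (top D) := by
    rw [← fr_eq]; exact H86.Par.fr_mem_Q hD ψ hq
  obtain ⟨s, hs⟩ := H86.Graded.eq_top_of_kap hD G T (mul_mem (inv_mem hq) hfq) (fun r hr h1 => by
    rw [H86.Graded.kap_add hD G T hr h1 (inv_mem hq) hfq, H86.Graded.kap_inv hD G T hr h1 hq]
    have h2 := H86.Par.kap_fr hD ψ hr h1 q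
    rw [fr_eq] at h2
    rw [h2, hk r hr h1]
    ring)
  obtain ⟨v₀, hv₀, hv₀U, hv₀f, e, he⟩ := V.split_top (H86.Par.Q_le_pos hD hq) hqs (s := s) (by rw [← hs]; group)
  have hX : xG hD (top D) e ∈ Q D K (top D) := xG_mem_Q hD T.lt (by rw [H86.Par.car_top hD]; norm_num) e
  have hvQ : v₀ ∈ Q D K (top D) := by
    have e1 : v₀ = q * (xG hD (top D) e)⁻¹ := by rw [he]; group
    rw [e1]
    exact mul_mem hq (inv_mem hX)
  refine ⟨e, v₀, hv₀, hvQ, by rw [fr_eq]; exact hv₀f, ?_⟩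
  rw [he]
  exact H86.Graded.Q_comm_top hD G T hvQ e

include V in
theorem OvH.hF : ∀ q ∈ Q D K (top D), sg q = q → H92.ChevFrob.fr D ψ q = q → q ∈ H := fun q hq hqs hqf =>
  V.memU q (H86.Par.Q_le_pos hD hq) hqs (by rw [← fr_eq]; exact hqf)

include V in
/-- elements of `H ∩ U` centralising `H ∩ Q` -/
theorem OvH.hCQ (hlev : ∀ r < D.nroots, D.IsPosRoot r → car D (top D) (rho r) = car D (top D) r)
    (hcl : ∀ r ∈ Lo.flatten, r ≠ top D → ∃ j ∈ Lo.flatten, car D (top D) j = 1 ∧ add D j r < D.nroots) :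
    ∀ s ∈ H, s ∈ D.posUnipotent K → (∀ q ∈ H, q ∈ Q D K (top D) → s * q = q * s) → s ∈ Q D K (top D) := by
  intro s hs hsU hcomm
  have O := ord (K := K) hD h W.T
  have hsg := W.G_fix s (V.le hs)
  have key : ∀ n : ℕ, (n : ℤ) + 1 ≤ H82.Level.ht D (top D) → s ∈ Lv K hD h (n + 1) := by
    intro n
    induction n with
    | zero =>
      intro _
      rw [Nat.cast_zero, zero_add, Lv_one]
      exact hsU
    | succ n ih =>
      intro hn
      push_cast at hn
      have h1 := ih (by omega)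
      push_cast
      refine mem_Lv_succ hD h O h1 fun r hr hrm => ?_
      have hrt : r ≠ top D := by
        rintro rfl
        omega
      obtain ⟨j, hj, hj1, hlt⟩ := hcl r ((O.mem r).2 hr) hrt
      have hj' := (O.mem j).1 hj
      refine cf_zero_of_comm W ψ V.ind h1 (by omega) hr hrm hj' hlt fun τ hτ hy hys hyf => ?_
      have hyH := V.memU _ hy.1 hys hyf
      have hyQ : yy hD Lo τ ∈ Q D K (top D) := by
        unfold yy
        refine lprod_mem _ fun x hx => ?_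
        by_cases hk : ∃ k : ℕ, rho^[k] j = x
        · obtain ⟨k, rfl⟩ := hk
          have h2 : ∀ k : ℕ, D.IsPosRoot (rho^[k] j) ∧ car D (top D) (rho^[k] j) = 1 := by
            intro k
            induction k with
            | zero => exact ⟨hj', hj1⟩
            | succ k ih =>
              rw [Function.iterate_succ_apply']
              exact ⟨rho_pos W ih.1, by rw [hlev _ ih.1.1 ih.1]; exact ih.2⟩
          exact xG_mem_Q hD (h2 k).1.1 (by rw [(h2 k).2]) _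
        · push Not at hk
          rw [hτ x hx hk, xG_zero]
          exact one_mem _
      have h3 : ⁅yy hD Lo τ, s⁆ = 1 := by
        rw [commutatorElement_eq_one_iff_mul_comm]
        exact (hcomm _ hyH hyQ).symm
      rw [h3, cf_one]
  have h1 := h.pos (top D) V.top_pos.1 V.top_pos
  have h2 := key ((H82.Level.ht D (top D)).toNat - 1) (by omega)
  have e1 : (((H82.Level.ht D (top D)).toNat - 1 : ℕ) : ℤ) + 1 = H82.Level.ht D (top D) := by omega
  rw [e1] at h2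
  rw [eq_top W V.top_pos V.max h2]
  exact xG_mem_Q hD V.top_pos.1 (by rw [H86.Par.car_top hD]; norm_num) _

end Ov

end Cfsg.Agent.H28.TwOv
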