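import Cfsg.Agent.H28.TwOv.Final
import Cfsg.Agent.H28.TwOv.Transfer
import Cfsg.Agent.H28.TwOv.OddOpp
import Cfsg.Agent.H28.GenF.TwSix
import Cfsg.Agent.H225.TwOv.E6B
import Cfsg.Agent.H225.TwOv.E6C
import Cfsg.Agent.H243.TwOpp.Even
import Cfsg.Agent.H243.TwOpp.Test
import Cfsg.Agent.H655.TwOv.Syl
import Cfsg.Agent.H86.TabNS
import Cfsg.Agent.H86.ParTabS

/-!
# The overgroup theorem for `²E₆(q₀) < ²E₆(q₀ ^ p)` (S2187, X6)
-/

set_option autoImplicit false

namespace Cfsg.Agent.H28.TwOv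

open Cfsg.Lie Cfsg.Agent.ChevalleyStructure Cfsg.Agent.ChevalleyStructure.Elts
open Cfsg.Agent.ChevalleyStructure.TwistedU Cfsg.Agent.H82.Level Cfsg.Agent.H82.TwMax
open Cfsg.Agent.ChevalleyStructure.RootCombGood (co car)
open Cfsg.Agent.ChevalleyStructure.RootWord
open Cfsg.Agent.H86.Par (top)
open Cfsg.Agent.H86.Graded (Q)
open Cfsg.Agent.ChevalleyStructure.TwistedE6Sigma (rho eps)
open Cfsg.Agent.ChevalleyStructure.TwistedE6U (L)
open Cfsg.Agent.ChevalleyStructure.TwE6Basic (hE6 sg exists_frob)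
open Cfsg.Agent.H82.TwE6 (slE6 X X_eq)
open Cfsg.Agent.H225.TwOv
open scoped commutatorElement

universe u

section E6

variable {K : Type u} [Field K] [Fintype K] {r a p q q0 : ℕ} {φ ψ : K →+* K} {H : Subgroup (GL chevE6.Idx K)}
  (V : OvE6 r a p q q0 φ ψ H)

theorem beta_pos : chevE6.IsPosRoot (add chevE6 (top chevE6) 25) := by decide +kernel

include V in
theorem beta_e6 : BetaP chevE6 hE6 φ ψ (sg φ) H 25 where
  lt := by decide
  ne := by decide
  nen := by decide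
  pos := beta_pos
  sg_x c := sg_real φ (by decide) (by decide) c
  mem c h1 h2 := V.real_mem (by decide) (by decide) h1 h2

theorem hodd_e6 : ∃ s < chevE6.nroots, car chevE6 (top chevE6) s = 0 ∧ ∃ i < chevE6.rank, rho (chevE6.simple i) =
    chevE6.simple i ∧ rho (chevE6.neg (chevE6.simple i)) = chevE6.neg (chevE6.simple i) ∧
    1 ≤ car chevE6 (top chevE6) (chevE6.reflectRoot i s) := by
  refine ⟨39, by decide, by decide +kernel, 1, by decide, by decide +kernel, by decide +kernel, by decide +kernel⟩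

include V in
/-- **`H` is fixed.** -/
theorem fixed_e6 (hX : ∀ t : K, X 71 t ∈ H → ψ t = t) : ∀ g ∈ H, H92.ChevFrob.fr chevE6 ψ g = g := by
  have hqq : ∀ t : K, (t ^ q) ^ q = t := fun t => by rw [← V.hφ, ← V.hφ, V.hφφ]
  have hfr : Fact r.Prime := ⟨V.hr⟩
  have hch := V.ch
  have hHG : H ≤ chevE6.group K := V.le.trans (BpExc.FamTw.Six.twisted_le_group q)
  have hfin : Finite ↥H := Finite.of_injective _ (Subgroup.subtype_injective _)
  have hR : ∀ s < chevE6.nroots, rho s = s → ∀ c : K, c = 1 ∨ c = -1 → xG hE6 s c ∈ H := by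
    intro s hs h c hc
    have h1 : φ c = c ∧ ψ c = c := by
      rcases hc with rfl | rfl
      · exact ⟨map_one _, map_one _⟩
      · exact ⟨by rw [map_neg, map_one], by rw [map_neg, map_one]⟩
    exact V.real_mem hs h h1.1 h1.2
  refine over_fixed (hD := hE6) (TwE6BN.T φ q V.hφ hqq) (W := V.tw) (V.ovh hX) V.clsP rfl rfl eps_one (beta_e6 V)
    (fun w b n u hb _ hn hu huG hg => V.key (V.ovh hX).fix_U w b n u hb hn hu huG hg) car71_rho climb71'
    (fun hA hC hP hB hF hCQ => ?_)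
  by_cases h2 : r = 2
  · subst h2
    refine H243.TwOpp.even_opp hE6 H86.Lev.hpE6 H86.Lev.hnE6 hHG (fun q => sg φ q = q) hA hC hP hF
      (hR _ (by decide) (by decide +kernel) 1 (Or.inl rfl)) ?_ (H243.TwOpp.ht_e6 ψ hR) hCQ ?_
    · rw [nG_def]
      exact mul_mem (hR _ (by decide) (by decide +kernel) 1 (Or.inl rfl)) (mul_mem
        (hR _ (by decide) (by decide +kernel) _ (Or.inr (by rw [inv_one]))) (hR _ (by decide) (by decide +kernel) 1 (Or.inl rfl)))
    · obtain ⟨e, heH, heU, hce⟩ := exists_reg (W := V.tw) (V.ovh hX) eps_one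
      exact H655.TwOv.exists_sylow hE6 slE6 2 hHG heH heU hce
  · exact odd_opp hE6 H86.Lev.hpE6 H86.Lev.hnE6 r h2 hHG (fun q => sg φ q = q) hA hC hP hB hF (fun s => rho s = s) hR
      (by decide +kernel) (by decide +kernel) hodd_e6

end E6

/-- the elements of a subfield -/
theorem mem_sub_of_pow {F : Type u} [Field F] [Fintype F] {F₀ : Subfield F} {c : ℕ} (hF₀ : Nat.card ↥F₀ = c) {t : F}
    (ht : t ^ c = t) : ∃ a : ↥F₀, F₀.subtype a = t := by
  have := Fintype.ofFinite ↥F₀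
  exact BpExc.Emb.mem_range_of_pow F₀.subtype (by rw [← Nat.card_eq_fintype_card, hF₀, ht])

/-- **The overgroup theorem for `²E₆`.** -/
theorem over_e6 : GenF.OverE6 := by
  intro K _ _ r _ _ q q0 p hq0 hp hp2 hq hK K0 hK0 H hHG hL
  obtain ⟨a, ha, hqa⟩ := hq0
  have hr : r.Prime := Fact.out
  have hodd : p % 2 = 1 := hp.eq_two_or_odd.resolve_left hp2
  have hqpp : IsPrimePow q := (isPrimePow_nat_iff _).2 ⟨r, a * p, hr, Nat.mul_pos ha hp.pos, by rw [hq, hqa, pow_mul]⟩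
  have hq0pp : IsPrimePow q0 := (isPrimePow_nat_iff _).2 ⟨r, a, hr, ha, hqa.symm⟩
  have hfin : Fintype ↥K0 := Fintype.ofFinite _
  have hK0' : Fintype.card ↥K0 = q0 ^ 2 := by rw [← Nat.card_eq_fintype_card, hK0]
  obtain ⟨φ, hφ, hqq⟩ := exists_frob hqpp hK
  obtain ⟨φ₀, hφ₀, hqq₀⟩ := exists_frob hq0pp hK0'
  obtain ⟨ψ, hψ⟩ : ∃ ψ : K →+* K, ∀ t, ψ t = t ^ (q0 ^ 2) :=
    ⟨iterateFrobenius K r (a * 2), fun t => by rw [iterateFrobenius_def, hqa, pow_mul]⟩
  have hf : ∀ t : ↥K0, K0.subtype (φ₀ t) = φ (K0.subtype t) := fun t => by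
    rw [hφ₀, hφ, hq, map_pow]
    exact (GenF.pow_sub6 hodd (by rw [← map_pow, GenF.card_sub6 hK0])).symm
  have hψ' : ∀ t : K, ψ t = t → ∃ a, K0.subtype a = t := fun t ht =>
    mem_sub_of_pow hK0 (by rw [← hψ, ht])
  have V : OvE6 r a p q q0 φ ψ H :=
    { hr := hr, ch := inferInstance, ha := ha, hq0 := hqa, hp := hp, hp2 := hp2, hq := hq, hK := hK, hφ := hφ, hψ := hψ
      le := hHG
      memU := fun u hu hs hfu => by
        obtain ⟨u₀, hu₀, e⟩ := memU_e6 (q₀ := q0) (q := q) K0.subtype hφ₀ (fun t => by rw [hφ₀, hφ₀, hqq₀]) hφ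
          (fun t => by rw [hφ, hφ, hqq]) hf hψ' hu hs hfu
        rw [← e]
        exact hL u₀ hu₀
      mem_n := fun i => by
        obtain ⟨n₀, hn₀, e⟩ := n_e6 (K := K) (q₀ := q0) K0.subtype hφ₀ i
        rw [← e]
        exact hL n₀ hn₀ }
  by_cases hX : ∀ t : K, X 71 t ∈ H → ψ t = t
  · right
    intro g hg i j
    have h1 := fixed_e6 V hX g hg
    have h2 := congrArg (fun z : GL chevE6.Idx K => (z : Matrix chevE6.Idx chevE6.Idx K) i j) h1
    rw [← hψ]
    exact h2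
  · left
    push Not at hX
    obtain ⟨t, ht, htψ⟩ := hX
    exact V.full ht htψ

end Cfsg.Agent.H28.TwOv
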